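import Mathlib.AlgebraicGeometry.Morphisms.Immersion
import Mathlib.AlgebraicGeometry.Noetherian
import Mathlib.AlgebraicGeometry.Stalk
import Mathlib.AlgebraicGeometry.Morphisms.Affine
import Mathlib.RingTheory.Filtration

/-!
# Where an immersion is an isomorphism
-/

set_option autoImplicit false
set_option linter.style.haveILetI false
set_option backward.isDefEq.respectTransparency false

universe u

open CategoryTheory AlgebraicGeometry TopologicalSpace

namespace Groth.Agent.ImmLim18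

variable {Y X : Scheme.{u}}

/-- The morphism is an isomorphism over a neighbourhood of the point. -/
def IsoAt (x : Y ⟶ X) (z : X) : Prop := ∃ W : X.Opens, z ∈ W ∧ IsIso (x ∣_ W)

/-- The locus where the morphism is an isomorphism. -/
def locus (x : Y ⟶ X) : X.Opens :=
  ⟨{z | IsoAt x z}, isOpen_iff_forall_mem_open.2 fun _ ⟨W, hzW, hW⟩ => ⟨W, fun w hw => ⟨W, hw, hW⟩, W.2, hzW⟩⟩

theorem IsoAt.of_comp {Y' : Scheme.{u}} (x : Y ⟶ X) (x' : Y' ⟶ X) [Mono x'] (t : Y ⟶ Y') (ht : t ≫ x' = x) {z : X}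
    (h : IsoAt x z) : IsoAt x' z := by
  subst ht
  obtain ⟨W, hzW, hW⟩ := h
  rw [morphismRestrict_comp] at hW
  haveI := hW
  haveI : IsSplitEpi (x' ∣_ W) := ⟨⟨⟨inv ((t ∣_ x' ⁻¹ᵁ W) ≫ (x' ∣_ W)) ≫ (t ∣_ x' ⁻¹ᵁ W), by
    rw [Category.assoc, IsIso.inv_hom_id]⟩⟩⟩
  haveI : Mono (x' ∣_ W) := by
    haveI : Mono ((x' ∣_ W) ≫ W.ι) := by rw [morphismRestrict_ι]; infer_instance
    exact mono_of_mono (x' ∣_ W) W.ι
  exact ⟨W, hzW, isIso_of_mono_of_isSplitEpi _⟩

theorem isIso_of_forall (x : Y ⟶ X) (h : ∀ z, IsoAt x z) : IsIso x := by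
  choose W hW hiso using h
  exact (IsZariskiLocalAtTarget.iff_of_iSup_eq_top (P := MorphismProperty.isomorphisms Scheme.{u}) W
    (eq_top_iff.mpr fun z _ => TopologicalSpace.Opens.mem_iSup.mpr ⟨z, hW z⟩)).mpr hiso

theorem IsoAt.exists_preimage {x : Y ⟶ X} {z : X} (h : IsoAt x z) :
    ∃ y, x y = z ∧ Function.Injective (x.stalkMap y) := by
  obtain ⟨W, hzW, hW⟩ := h
  haveI := hW
  obtain ⟨v, hv⟩ := (x ∣_ W).surjective ⟨z, hzW⟩
  refine ⟨v.1, ?_, ?_⟩
  · have h1 := congrArg W.ι hv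
    rw [← Scheme.Hom.comp_apply, morphismRestrict_ι, Scheme.Hom.comp_apply] at h1
    exact h1
  · have hb : Function.Bijective ((x ∣_ W).stalkMap v) := ConcreteCategory.bijective_of_isIso _
    have hiso := (MorphismProperty.isomorphisms CommRingCat.{u}).arrow_mk_iso_iff (morphismRestrictStalkMap x W v)
    have h2 : IsIso (x.stalkMap v.1) := hiso.1 (show IsIso ((x ∣_ W).stalkMap v) from inferInstance)
    exact (ConcreteCategory.bijective_of_isIso (x.stalkMap v.1)).1

/-- An immersion into a locally Noetherian scheme is an isomorphism near a point where its stalk map is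
injective. -/
theorem isoAt_of_injective [IsLocallyNoetherian X] (x : Y ⟶ X) [IsImmersion x] (y : Y)
    (hinj : Function.Injective (x.stalkMap y)) : IsoAt x (x y) := by
  have hy : x y ∈ x.coborderRange := subset_coborder (Set.mem_range_self y)
  obtain ⟨W, hW, hzW, hWV⟩ := exists_isAffineOpen_mem_and_subset hy
  haveI : IsClosedImmersion (x ∣_ W) := by
    refine IsClosedImmersion.of_isPreimmersion _ ?_
    have h1 : Set.range (x ∣_ W) = W.ι ⁻¹' Set.range x := by
      ext w
      constructor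
      · rintro ⟨v, rfl⟩
        exact ⟨(x ⁻¹ᵁ W).ι v, by rw [← Scheme.Hom.comp_apply, ← Scheme.Hom.comp_apply, morphismRestrict_ι]⟩
      · rintro ⟨v, hv⟩
        refine ⟨⟨v, show x v ∈ W by rw [hv]; exact w.2⟩, W.ι.isOpenEmbedding.injective ?_⟩
        rw [← Scheme.Hom.comp_apply, morphismRestrict_ι, Scheme.Hom.comp_apply]
        exact hv
    rw [h1]
    have hs : IsClosed ((Subtype.val : coborder (Set.range x) → X) ⁻¹' Set.range x) :=
      isClosed_preimage_val_coborder
    exact hs.preimage (Continuous.subtype_mk W.ι.continuous fun w => hWV w.2)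
  haveI : IsAffine (W : Scheme.{u}) := hW
  haveI : IsAffineHom (x ∣_ W) := inferInstance
  obtain ⟨p, hp⟩ : ∃ p : ↥(x ⁻¹ᵁ W), p.1 = y := ⟨⟨y, hzW⟩, rfl⟩
  -- restrict to `W`
  let x' := x ∣_ W
  have hinj' : Function.Injective (x'.stalkMap p) := by
    have e := morphismRestrictStalkMap x W p
    have hy' : Function.Injective (x.stalkMap p.1) := by rw [hp]; exact hinj
    have hw : e.hom.left ≫ x.stalkMap p.1 = x'.stalkMap p ≫ e.hom.right := Arrow.w e.hom
    intro a b hab
    have := congrArg e.hom.right hab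
    change (x'.stalkMap p ≫ e.hom.right) a = (x'.stalkMap p ≫ e.hom.right) b at this
    rw [← hw, CommRingCat.comp_apply, CommRingCat.comp_apply] at this
    exact (ConcreteCategory.bijective_of_isIso e.hom.left).1 (hy' this)
  obtain ⟨t, hzt, ht⟩ : ∃ t : Γ((W : Scheme.{u}), ⊤), x' p ∈ (W : Scheme.{u}).basicOpen t ∧
      ∀ a, x'.appTop a = 0 → t * a = 0 := by
    haveI : IsNoetherianRing Γ((W : Scheme.{u}), ⊤) := by
      haveI : IsLocallyNoetherian (W : Scheme.{u}) := inferInstance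
      exact IsLocallyNoetherian.component_noetherian ⟨⊤, isAffineOpen_top _⟩
    obtain ⟨G, hG⟩ := (IsNoetherian.noetherian (RingHom.ker x'.appTop.hom) :
      (RingHom.ker x'.appTop.hom).FG)
    haveI := (isAffineOpen_top (W : Scheme.{u})).isLocalization_stalk ⟨x' p, trivial⟩
    letI := (W : Scheme.{u}).presheaf.algebra_section_stalk (U := ⊤) ⟨x' p, trivial⟩
    let P := ((isAffineOpen_top (W : Scheme.{u})).primeIdealOf ⟨x' p, trivial⟩).asIdeal
    have hkill : ∀ g ∈ G, ∃ t : Γ((W : Scheme.{u}), ⊤), t ∉ P ∧ t * g = 0 := by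
      intro g hg
      have h0 : x'.appTop g = 0 := (hG ▸ Ideal.subset_span hg : g ∈ RingHom.ker x'.appTop.hom)
      have hz : (W : Scheme.{u}).presheaf.germ ⊤ (x' p) trivial g = 0 := by
        apply hinj'
        rw [map_zero, ← CommRingCat.comp_apply, Scheme.Hom.germ_stalkMap, CommRingCat.comp_apply]
        exact (congrArg _ h0).trans (map_zero _)
      obtain ⟨c, hc⟩ := (IsLocalization.map_eq_zero_iff P.primeCompl _ g).mp hz
      exact ⟨c, c.2, hc⟩
    choose! τ hτ using hkill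
    refine ⟨∏ g ∈ G, τ g, ?_, fun a ha => ?_⟩
    · have hP : (∏ g ∈ G, τ g) ∉ P := fun hm => by
        obtain ⟨g, hg, hgm⟩ := (Ideal.IsPrime.prod_mem_iff (p := P)).mp hm
        exact (hτ g hg).1 hgm
      rw [Scheme.mem_basicOpen]
      pick_goal 2; · trivial
      exact IsLocalization.map_units ((W : Scheme.{u}).presheaf.stalk (x' p)) (⟨_, hP⟩ : P.primeCompl)
    · have hm : a ∈ Ideal.span (G : Set Γ((W : Scheme.{u}), ⊤)) := by rw [show Ideal.span (G : Set Γ((W : Scheme.{u}), ⊤)) = _ from hG]; exact ha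
      clear ha
      induction hm using Submodule.span_induction with
      | mem g hg =>
        obtain ⟨c, hc⟩ := Finset.dvd_prod_of_mem τ (Finset.mem_coe.mp hg)
        rw [hc, mul_right_comm, (hτ g hg).2, zero_mul]
      | zero => rw [mul_zero]
      | add a b _ _ h1 h2 => rw [mul_add, h1, h2, add_zero]
      | smul r a _ h1 => rw [smul_eq_mul, mul_left_comm, h1, mul_zero]
  let D : (W : Scheme.{u}).Opens := (W : Scheme.{u}).basicOpen t
  have hD : IsAffineOpen D := (isAffineOpen_top _).basicOpen t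
  haveI : IsIso (x' ∣_ D) := by
    rw [isIso_morphismRestrict_iff_isIso_app x' hD]
    rw [ConcreteCategory.isIso_iff_bijective]
    refine ⟨(injective_iff_map_eq_zero _).mpr fun b hb => ?_, x'.app_surjective D hD⟩
    haveI := (isAffineOpen_top (W : Scheme.{u})).isLocalization_basicOpen t
    obtain ⟨⟨a, c⟩, hac⟩ := IsLocalization.surj (Submonoid.powers t) b
    have h1 : x'.app D (algebraMap Γ((W : Scheme.{u}), ⊤) Γ((W : Scheme.{u}), D) a) = 0 := by
      rw [← hac, map_mul, hb, zero_mul]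
    haveI haff : IsAffine (↑(x ⁻¹ᵁ W) : Scheme.{u}) := isAffine_of_isAffineHom x'
    haveI := (isAffineOpen_top (↑(x ⁻¹ᵁ W) : Scheme.{u})).isLocalization_basicOpen (x'.appTop t)
    have h2 : algebraMap Γ((↑(x ⁻¹ᵁ W) : Scheme.{u}), ⊤)
        Γ((↑(x ⁻¹ᵁ W) : Scheme.{u}), (↑(x ⁻¹ᵁ W) : Scheme.{u}).basicOpen (x'.appTop t)) (x'.appTop a) = 0 := by
      have h3 := congrArg ((↑(x ⁻¹ᵁ W) : Scheme.{u}).presheaf.map
        (eqToHom (Scheme.preimage_basicOpen_top x' t).symm).op) h1
      rw [map_zero] at h3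
      refine Eq.trans ?_ h3
      change (x'.appTop ≫ (↑(x ⁻¹ᵁ W) : Scheme.{u}).presheaf.map _) a =
        ((W : Scheme.{u}).presheaf.map (homOfLE le_top).op ≫ x'.app D ≫ (↑(x ⁻¹ᵁ W) : Scheme.{u}).presheaf.map _) a
      rw [Scheme.Hom.naturality_assoc, ← Functor.map_comp]
      rfl
    obtain ⟨⟨_, m, rfl⟩, hm⟩ := (IsLocalization.map_eq_zero_iff (Submonoid.powers (x'.appTop t)) _ _).mp h2
    have h4 : t * (t ^ m * a) = 0 := ht _ (by rw [map_mul, map_pow]; exact hm)
    have h5 : algebraMap Γ((W : Scheme.{u}), ⊤) Γ((W : Scheme.{u}), D) a = 0 :=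
      (IsLocalization.map_eq_zero_iff (Submonoid.powers t) _ a).mpr
        ⟨⟨t ^ (m + 1), m + 1, rfl⟩, by show t ^ (m + 1) * a = 0; rw [pow_succ', mul_assoc]; exact h4⟩
    rw [h5] at hac
    exact (IsLocalization.map_units _ c).mul_left_eq_zero.mp hac
  refine ⟨W.ι ''ᵁ D, ⟨x' p, hzt, ?_⟩, ?_⟩
  · show ((x ∣_ W) ≫ W.ι) p = x y
    rw [morphismRestrict_ι, Scheme.Hom.comp_apply]
    exact congrArg x hp
  · exact ((MorphismProperty.isomorphisms Scheme.{u}).arrow_mk_iso_iff (morphismRestrictRestrict x W D)).mp ‹_›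

end Groth.Agent.ImmLim18
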