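import Groth.Agent.ImmLim18.Basic
import Mathlib.RingTheory.Finiteness.Ideal

/-!
# A filtered family of immersions which is eventually an isomorphism on all infinitesimal fibres
-/

set_option autoImplicit false
set_option linter.style.haveILetI false
set_option backward.isDefEq.respectTransparency false

universe u

open CategoryTheory AlgebraicGeometry TopologicalSpace CategoryTheory.Limits

namespace Groth.Agent.ImmLim18

variable {X : Scheme.{u}}

/-- Sections of the local ring vanishing on the punctured spectrum. -/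
noncomputable def punctured (z : X) : Ideal (X.presheaf.stalk z) :=
  ⨅ (w : {w : X // w ⤳ z ∧ w ≠ z}), RingHom.ker (X.presheaf.stalkSpecializes w.2.1).hom

theorem pow_mul_eq_zero [IsLocallyNoetherian X] (z : X) {a : X.presheaf.stalk z} (ha : a ∈ punctured z) :
    ∃ k : ℕ, ∀ r ∈ IsLocalRing.maximalIdeal (X.presheaf.stalk z) ^ k, r * a = 0 := by
  obtain ⟨W, hW, hzW, -⟩ := exists_isAffineOpen_mem_and_subset (x := z) (U := ⊤) trivial
  letI := X.presheaf.algebra_section_stalk (U := W) ⟨z, hzW⟩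
  haveI := hW.isLocalization_stalk ⟨z, hzW⟩
  let Ann : Ideal (X.presheaf.stalk z) := (Submodule.span (X.presheaf.stalk z) {a}).annihilator
  suffices hrad : IsLocalRing.maximalIdeal (X.presheaf.stalk z) ≤ Ann.radical by
    obtain ⟨k, hk⟩ := Ideal.exists_pow_le_of_le_radical_of_fg hrad (IsNoetherian.noetherian _)
    exact ⟨k, fun r hr => Submodule.mem_annihilator_span_singleton a r |>.mp (hk hr)⟩
  rw [Ideal.radical_eq_sInf]
  refine le_sInf ?_
  rintro p ⟨hp, hpp⟩
  haveI := hpp
  by_contra hne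
  -- the point of `X` under `p`
  let w : X := X.fromSpecStalk z ⟨p, hpp⟩
  have hwz : w ⤳ z := by
    have h : w ∈ Set.range (X.fromSpecStalk z) := ⟨_, rfl⟩
    rw [Scheme.range_fromSpecStalk] at h
    exact h
  have hwW : w ∈ W := hwz.mem_open W.2 hzW
  letI := X.presheaf.algebra_section_stalk (U := W) ⟨w, hwW⟩
  haveI := hW.isLocalization_stalk ⟨w, hwW⟩
  let q := p.comap (algebraMap Γ(X, W) (X.presheaf.stalk z))
  haveI : q.IsPrime := Ideal.comap_isPrime _ _
  have hw : hW.fromSpec ⟨q, inferInstance⟩ = w := by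
    show _ = X.fromSpecStalk z ⟨p, hpp⟩
    rw [← hW.fromSpecStalk_eq_fromSpecStalk hzW, IsAffineOpen.fromSpecStalk, Scheme.Hom.comp_apply]
    rfl
  have hq : (hW.primeIdealOf ⟨w, hwW⟩).asIdeal = q := by
    have h : hW.primeIdealOf ⟨w, hwW⟩ = ⟨q, inferInstance⟩ :=
      hW.fromSpec.isOpenEmbedding.injective ((hW.fromSpec_primeIdealOf ⟨w, hwW⟩).trans hw.symm)
    exact congrArg PrimeSpectrum.asIdeal h
  have hwne : w ≠ z := fun h => by
    apply hne
    intro r hr
    obtain ⟨⟨b, c⟩, hbc⟩ := IsLocalization.surj (hW.primeIdealOf ⟨z, hzW⟩).asIdeal.primeCompl r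
    have hb : b ∈ q := by
      rw [← hq, show (⟨w, hwW⟩ : W) = ⟨z, hzW⟩ from Subtype.ext h]
      by_contra hb
      have hu : IsUnit (algebraMap Γ(X, W) (X.presheaf.stalk z) b) :=
        IsLocalization.map_units (X.presheaf.stalk z) (⟨b, hb⟩ : (hW.primeIdealOf ⟨z, hzW⟩).asIdeal.primeCompl)
      exact hr (isUnit_of_mul_isUnit_left (hbc ▸ hu))
    have h1 : r * algebraMap Γ(X, W) (X.presheaf.stalk z) c ∈ p := by rw [hbc]; exact hb
    exact (hpp.mem_or_mem h1).resolve_right fun hc =>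
      hpp.ne_top (Ideal.eq_top_of_isUnit_mem _ hc (IsLocalization.map_units _ c))
  obtain ⟨⟨b, c⟩, hbc⟩ := IsLocalization.surj (hW.primeIdealOf ⟨z, hzW⟩).asIdeal.primeCompl a
  have h0 : X.presheaf.stalkSpecializes hwz a = 0 := (Submodule.mem_iInf _).mp ha ⟨w, hwz, hwne⟩
  have hb0 : algebraMap Γ(X, W) (X.presheaf.stalk w) b = 0 := by
    have hsp : ∀ e, X.presheaf.stalkSpecializes hwz (algebraMap Γ(X, W) (X.presheaf.stalk z) e) =
        algebraMap Γ(X, W) (X.presheaf.stalk w) e := fun e =>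
      ConcreteCategory.congr_hom (X.presheaf.germ_stalkSpecializes hzW hwz) e
    rw [← hsp, ← hbc, map_mul, h0, zero_mul]
  obtain ⟨⟨d, hd⟩, hdb⟩ := (IsLocalization.map_eq_zero_iff (hW.primeIdealOf ⟨w, hwW⟩).asIdeal.primeCompl _ b).mp hb0
  have hd' : d ∉ q := fun h => hd (hq.ge h)
  refine hd' (Ideal.mem_comap.mpr (hp ?_))
  rw [Submodule.mem_annihilator_span_singleton, smul_eq_mul]
  refine (IsLocalization.map_units (X.presheaf.stalk z) c).mul_left_eq_zero.mp ?_
  rw [mul_assoc, hbc, ← map_mul, show d * b = 0 from hdb, map_zero]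

theorem exists_pow_inf_punctured [IsLocallyNoetherian X] (z : X) (J : Ideal (X.presheaf.stalk z))
    (hJ : J ≤ IsLocalRing.maximalIdeal (X.presheaf.stalk z)) : ∃ n : ℕ, J ^ (n + 1) ⊓ punctured z = ⊥ := by
  obtain ⟨G, hG⟩ := (IsNoetherian.noetherian (punctured z) : (punctured z).FG)
  have hG' : ∀ g ∈ G, g ∈ punctured z := fun g hg => hG ▸ Ideal.subset_span hg
  choose! k hk using fun g hg => pow_mul_eq_zero z (hG' g hg)
  obtain ⟨c, hc⟩ := J.exists_pow_inf_eq_pow_smul (punctured z)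
  refine ⟨c + G.sup k, eq_bot_iff.mpr fun a ha => ?_⟩
  have h := hc (c + G.sup k + 1) (by omega)
  simp only [smul_eq_mul, Ideal.mul_top] at h
  rw [h] at ha
  have hle : J ^ (c + G.sup k + 1 - c) * (J ^ c ⊓ punctured z) ≤ ⊥ := by
    refine (Ideal.mul_mono le_rfl inf_le_right).trans ?_
    rw [← hG, ← Ideal.span_eq (J ^ (c + G.sup k + 1 - c))]
    refine (Ideal.span_mul_span' _ _).le.trans (Ideal.span_le.mpr ?_)
    rintro _ ⟨r, hr, g, hg, rfl⟩
    refine hk g hg r ?_
    exact (Ideal.pow_le_pow_right (by have := Finset.le_sup (f := k) (Finset.mem_coe.mp hg); omega))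
      (Ideal.pow_right_mono hJ _ hr)
  exact hle ha

theorem exists_isIso {S : Scheme.{u}} [IsNoetherian S] (f : X ⟶ S) [LocallyOfFiniteType f] [QuasiCompact f]
    {D : Type u} [Preorder D] [IsDirected D (fun a b => a ≤ b)] [Nonempty D]
    (Xi : D → Scheme.{u}) (x : ∀ i, Xi i ⟶ X) [∀ i, IsImmersion (x i)]
    (hmono : ∀ i j, i ≤ j → ∃ t : Xi i ⟶ Xi j, t ≫ x j = x i)
    (h : ∀ (s : S) (n : ℕ), ∃ i : D,
      IsIso (pullback.snd (x i) (pullback.fst f
        (Spec.map (CommRingCat.ofHom (Ideal.Quotient.mk (IsLocalRing.maximalIdeal (S.presheaf.stalk s) ^ (n + 1)))) ≫ S.fromSpecStalk s)))) :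
    ∃ i : D, IsIso (x i) := by
  haveI : IsLocallyNoetherian X := LocallyOfFiniteType.isLocallyNoetherian f
  haveI : CompactSpace X := QuasiCompact.compactSpace_of_compactSpace f
  haveI : IsNoetherian X := {}
  have hle : ∀ i j, i ≤ j → locus (x i) ≤ locus (x j) := fun i j hij z hz => by
    obtain ⟨t, ht⟩ := hmono i j hij
    exact IsoAt.of_comp _ _ t ht hz
  obtain ⟨U, ⟨i₀, hi₀⟩, hmax⟩ := wellFounded_gt.has_min (Set.range fun i => locus (x i)) (Set.range_nonempty _)
  refine ⟨i₀, isIso_of_forall _ fun z₀ => ?_⟩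
  by_contra hz₀
  let Z : Set X := (locus (x i₀) : Set X)ᶜ
  have hZc : IsClosed Z := (locus (x i₀)).2.isClosed_compl
  haveI : QuasiSober Z := hZc.isClosedEmbedding_subtypeVal.quasiSober
  let ξ := (isIrreducible_irreducibleComponent (x := (⟨z₀, hz₀⟩ : Z))).genericPoint
  have hξ : IsGenericPoint ξ (irreducibleComponent (⟨z₀, hz₀⟩ : Z)) :=
    (isIrreducible_irreducibleComponent (x := (⟨z₀, hz₀⟩ : Z))).isGenericPoint_genericPoint
      isClosed_irreducibleComponent
  let z : X := ξ.1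
  -- all proper generalisations of `z` are in the locus
  have hgen : ∀ w, w ⤳ z → w ≠ z → IsoAt (x i₀) w := by
    intro w hw hne
    by_contra hwZ
    have hw' : (⟨w, hwZ⟩ : Z) ⤳ ξ := subtype_specializes_iff _ _ |>.mpr hw
    have hsub : irreducibleComponent (⟨z₀, hz₀⟩ : Z) ⊆ closure {(⟨w, hwZ⟩ : Z)} := by
      rw [← hξ.def]
      exact closure_minimal (Set.singleton_subset_iff.mpr (specializes_iff_mem_closure.mp hw')) isClosed_closure
    have heq := (irreducibleComponent_mem_irreducibleComponents (⟨z₀, hz₀⟩ : Z)).2 isIrreducible_singleton.closure hsub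
    exact hne (congrArg Subtype.val
      ((hw'.antisymm (hξ.specializes (heq (subset_closure rfl)))).eq))
  let s := f z
  let J : Ideal (X.presheaf.stalk z) := (IsLocalRing.maximalIdeal (S.presheaf.stalk s)).map (f.stalkMap z).hom
  have hJ : J ≤ IsLocalRing.maximalIdeal _ :=
    ((IsLocalRing.local_hom_TFAE (f.stalkMap z).hom).out 0 2).mp (inferInstance : IsLocalHom (f.stalkMap z).hom)
  obtain ⟨n, hn⟩ := exists_pow_inf_punctured z J hJ
  obtain ⟨i₁, hi₁⟩ := h s n
  obtain ⟨j, hj₀, hj₁⟩ := exists_ge_ge i₀ i₁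
  -- the thickened point factors through `x j`
  let A : CommRingCat.{u} := CommRingCat.of (X.presheaf.stalk z ⧸ J ^ (n + 1))
  haveI : Nontrivial A := Ideal.Quotient.nontrivial_iff.mpr
    (ne_top_of_le_ne_top (IsLocalRing.maximalIdeal.isMaximal _).ne_top ((Ideal.pow_le_self (by omega)).trans hJ))
  haveI : IsLocalRing A := IsLocalRing.of_surjective' (Ideal.Quotient.mk _) Ideal.Quotient.mk_surjective
  let π : X.presheaf.stalk z ⟶ A := CommRingCat.ofHom (Ideal.Quotient.mk (J ^ (n + 1)))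
  let g : Spec A ⟶ X := Spec.map π ≫ X.fromSpecStalk z
  let β := CommRingCat.ofHom (Ideal.Quotient.mk (IsLocalRing.maximalIdeal (S.presheaf.stalk s) ^ (n + 1)))
  let ψ : CommRingCat.of (S.presheaf.stalk s ⧸ IsLocalRing.maximalIdeal (S.presheaf.stalk s) ^ (n + 1)) ⟶ A :=
    CommRingCat.ofHom (Ideal.quotientMap (J ^ (n + 1)) (f.stalkMap z).hom
      (by rw [← Ideal.map_le_iff_le_comap, Ideal.map_pow]))
  have hsq : g ≫ f = Spec.map ψ ≫ (Spec.map β ≫ S.fromSpecStalk s) := by
    rw [Category.assoc, ← Scheme.SpecMap_stalkMap_fromSpecStalk, ← Category.assoc, ← Category.assoc,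
      ← Spec.map_comp, ← Spec.map_comp]
    rfl
  obtain ⟨t, ht⟩ := hmono i₁ j hj₁
  obtain ⟨l, hl⟩ : ∃ l : Spec A ⟶ Xi j, l ≫ x j = g := by
    let p := pullback.fst f (Spec.map β ≫ S.fromSpecStalk s)
    haveI : IsIso (pullback.snd (x i₁) p) := hi₁
    refine ⟨pullback.lift g (Spec.map ψ) hsq ≫ inv (pullback.snd (x i₁) p) ≫ pullback.fst (x i₁) p ≫ t, ?_⟩
    simp only [Category.assoc, ht, pullback.condition, IsIso.inv_hom_id_assoc]
    exact pullback.lift_fst _ _ _
  let y := l (IsLocalRing.closedPoint A)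
  have hπ : IsLocalHom π.hom := .of_surjective π.hom Ideal.Quotient.mk_surjective
  have hg : g (IsLocalRing.closedPoint A) = z := by
    show (Spec.map π ≫ X.fromSpecStalk z) _ = z
    rw [Scheme.Hom.comp_apply]
    haveI := hπ
    exact (congrArg _ (IsLocalRing.comap_closedPoint π.hom)).trans Scheme.fromSpecStalk_closedPoint
  have hy : x j y = z := by rw [← hg, ← hl]; rfl
  refine hmax (locus (x j)) ⟨j, rfl⟩ ?_
  rw [← hi₀]
  refine SetLike.lt_iff_le_and_exists.mpr ⟨hle i₀ j hj₀, z, ?_, ξ.2⟩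
  rw [← hy]
  refine isoAt_of_injective (x j) y ?_
  -- the kernel is supported at `z` and lies in `J ^ (n + 1)`
  rw [injective_iff_map_eq_zero]
  intro a ha
  let a' : X.presheaf.stalk z := (X.presheaf.stalkCongr (.of_eq hy)).hom a
  have hP : a' ∈ punctured z := by
    refine (Submodule.mem_iInf _).mpr fun w => ?_
    have hwj : IsoAt (x j) w.1 := hle i₀ j hj₀ (hgen w.1 w.2.1 w.2.2)
    obtain ⟨y', hy', hinj⟩ := hwj.exists_preimage
    have hyy : y' ⤳ y := (x j).isEmbedding.isInducing.specializes_iff.mp (show x j y' ⤳ x j y by rw [hy', hy]; exact w.2.1)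
    have h1 : X.presheaf.stalkSpecializes (hyy.map (x j).continuous) a = 0 := by
      apply hinj
      rw [map_zero, ← CommRingCat.comp_apply, Scheme.Hom.stalkSpecializes_stalkMap (x j) _ _ hyy, CommRingCat.comp_apply, ha,
        map_zero]
    show X.presheaf.stalkSpecializes w.2.1 a' = 0
    have h2 := congrArg (X.presheaf.stalkSpecializes (show w.1 ⤳ x j y' from (Inseparable.of_eq hy').symm.specializes)) h1
    rw [map_zero, ← CommRingCat.comp_apply, TopCat.Presheaf.stalkSpecializes_comp] at h2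
    show X.presheaf.stalkSpecializes w.2.1 (X.presheaf.stalkSpecializes (Inseparable.of_eq hy).specializes' a) = 0
    rw [← CommRingCat.comp_apply, TopCat.Presheaf.stalkSpecializes_comp]
    exact h2
  have hJn : a' ∈ J ^ (n + 1) := by
    rw [← Ideal.Quotient.eq_zero_iff_mem]
    have h1 : Scheme.stalkClosedPointTo (l ≫ x j) a = 0 := by
      rw [Scheme.stalkClosedPointTo_comp, CommRingCat.comp_apply]
      exact (congrArg _ ha).trans (map_zero _)
    have key : ∀ (g' : Spec A ⟶ X) (e : g' = g) (a : X.presheaf.stalk (g' (IsLocalRing.closedPoint A))),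
        Scheme.stalkClosedPointTo g' a = π (X.presheaf.stalkSpecializes (by rw [e, hg]; exact specializes_refl z) a) := by
      rintro _ rfl a
      obtain ⟨V, hV, b, rfl⟩ := X.presheaf.exists_germ_eq a
      rw [TopCat.Presheaf.germ_stalkSpecializes_apply]
      exact ConcreteCategory.congr_hom (Scheme.germ_stalkClosedPointTo_Spec_fromSpecStalk π V _) b
    rw [key _ hl] at h1
    exact h1
  have h0 : a' = 0 := by
    have : a' ∈ J ^ (n + 1) ⊓ punctured z := ⟨hJn, hP⟩
    rw [hn] at this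
    exact this
  exact (ConcreteCategory.bijective_of_isIso (X.presheaf.stalkCongr (.of_eq hy)).hom).1 (h0.trans (map_zero _).symm)

end Groth.Agent.ImmLim18
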